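import Cfsg.Agent.H830.B57.Str
import Cfsg.Agent.H457.Bs.Pts

/-!
# S5717, linear groups: homogeneous modules satisfy `Hg`
-/

set_option autoImplicit false

open Subgroup

namespace Cfsg.Agent.H457.Bs

open Cfsg.Agent.H830.B57

variable {p : ℕ} [Fact p.Prime] {V : Type} [AddCommGroup V] [Module (ZMod p) V]
  {U : Type} [AddCommGroup U] [Module (ZMod p) U] {M : ℕ}
  {E : Subgroup (V ≃ₗ[ZMod p] V)} {ρ : E →* (U ≃ₗ[ZMod p] U)} {φ : V ≃ₗ[ZMod p] (Fin M → U)}

/-- the coordinates determine the coordinates of the images -/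
theorem coord_indep (h : HomDec E M ρ φ) {a : Module.End (ZMod p) V} (ha : a ∈ RR E) :
    ∀ (v v' : V) (j j' : Fin M), φ v j = φ v' j' → φ (a v) j = φ (a v') j' := by
  induction ha using Algebra.adjoin_induction with
  | mem a ha =>
    obtain ⟨e, he, rfl⟩ := ha
    intro v v' j j' hvv
    have h1 := h.eq ⟨e, he⟩ v j
    have h2 := h.eq ⟨e, he⟩ v' j'
    calc φ (e v) j = ρ ⟨e, he⟩ (φ v j) := h1
      _ = ρ ⟨e, he⟩ (φ v' j') := by rw [hvv]
      _ = φ (e v') j' := h2.symm
  | algebraMap r =>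
    intro v v' j j' hvv
    rw [Module.algebraMap_end_apply, Module.algebraMap_end_apply, map_smul, map_smul, Pi.smul_apply, Pi.smul_apply,
      hvv]
  | add a b _ _ ha hb =>
    intro v v' j j' hvv
    rw [LinearMap.add_apply, LinearMap.add_apply, map_add, map_add, Pi.add_apply, Pi.add_apply, ha v v' j j' hvv,
      hb v v' j j' hvv]
  | mul a b _ _ ha hb =>
    intro v v' j j' hvv
    exact ha _ _ j j' (hb v v' j j' hvv)

theorem coord_zero (h : HomDec E M ρ φ) {a : Module.End (ZMod p) V} (ha : a ∈ RR E) {v : V} {j : Fin M}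
    (hv : φ v j = 0) : φ (a v) j = 0 := by
  have h1 := coord_indep h ha v 0 j j (by rw [hv, map_zero]; rfl)
  rw [h1, map_zero, map_zero]
  rfl

/-- irreducibility of `U` -/
theorem coord_surj (h : HomDec E M ρ φ) {v : V} {j : Fin M} (hv : φ v j ≠ 0) (y : U) :
    ∃ b ∈ RR E, φ (b v) j = y := by
  let W : Submodule (ZMod p) U :=
    { carrier := {y | ∃ b ∈ RR E, φ (b v) j = y}
      add_mem' := by
        rintro _ _ ⟨a, ha, rfl⟩ ⟨b, hb, rfl⟩
        exact ⟨a + b, add_mem ha hb, by rw [LinearMap.add_apply, map_add, Pi.add_apply]⟩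
      zero_mem' := ⟨0, zero_mem _, by rw [LinearMap.zero_apply, map_zero]; rfl⟩
      smul_mem' := by
        rintro c _ ⟨a, ha, rfl⟩
        exact ⟨c • a, Subalgebra.smul_mem _ ha c, by rw [LinearMap.smul_apply, map_smul, Pi.smul_apply]⟩ }
  have hW : W = ⊤ := by
    refine (h.irr W ?_).resolve_left ?_
    · rintro e _ ⟨a, ha, rfl⟩
      refine ⟨((e : V ≃ₗ[ZMod p] V) : V →ₗ[ZMod p] V) * a, mul_mem (mem_RR e.2) ha, ?_⟩
      exact h.eq e (a v) j
    · intro hb
      have : φ v j ∈ W := ⟨1, one_mem _, rfl⟩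
      rw [hb] at this
      exact hv ((Submodule.mem_bot _).1 this)
  have : y ∈ W := by rw [hW]; exact Submodule.mem_top
  exact this

/-- **homogeneous modules** -/
theorem hg_of_homDec [Finite V] (h : HomDec E M ρ φ) (hV : ∃ v : V, v ≠ 0) : Hg E := by
  classical
  refine ⟨?_, ?_, ?_⟩
  · obtain ⟨v, hv⟩ := hV
    have hv' : φ v ≠ 0 := fun h0 => hv ((map_eq_zero_iff φ φ.injective).1 h0)
    obtain ⟨j, hj⟩ := Function.ne_iff.1 hv'
    have hj' : φ v j ≠ 0 := hj
    have hs : ∀ k, k ≠ j → φ (φ.symm (Pi.single j (φ v j))) k = 0 := by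
      intro k hk
      rw [LinearEquiv.apply_symm_apply, Pi.single_eq_of_ne hk]
    have hsj : φ (φ.symm (Pi.single j (φ v j))) j = φ v j := by
      rw [LinearEquiv.apply_symm_apply, Pi.single_eq_same]
    refine ⟨φ.symm (Pi.single j (φ v j)), fun h0 => ?_, fun a ha hne => ?_⟩
    · rw [h0, map_zero] at hsj
      exact hj' hsj.symm
    · have h1 : φ (a (φ.symm (Pi.single j (φ v j)))) j ≠ 0 := by
        intro h0
        apply hne
        apply (map_eq_zero_iff φ φ.injective).1
        funext k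
        by_cases hk : k = j
        · rw [hk, h0]; rfl
        · rw [coord_zero h ha (hs k hk)]; rfl
      obtain ⟨b, hb, hby⟩ := coord_surj h h1 (φ v j)
      refine ⟨b, hb, φ.injective ?_⟩
      funext k
      by_cases hk : k = j
      · rw [hk, hby, hsj]
      · rw [hs k hk, coord_zero h hb (coord_zero h ha (hs k hk))]
  · intro u hu W hW hWne
    -- the coordinates of a pure vector
    have hu' : φ u ≠ 0 := fun h0 => hu.1 ((map_eq_zero_iff φ φ.injective).1 h0)
    obtain ⟨j, hj⟩ := Function.ne_iff.1 hu'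
    have hj' : φ u j ≠ 0 := hj
    have hann : ∀ a ∈ RR E, a u = 0 ↔ φ (a u) j = 0 := by
      intro a ha
      constructor
      · intro h0
        rw [h0, map_zero]; rfl
      · intro h0
        by_contra hne
        obtain ⟨b, hb, hbu⟩ := hu.2 a ha hne
        have := coord_zero h hb h0
        rw [hbu] at this
        exact hj' this
    -- a minimal stable subspace
    have hfin : Finite (Submodule (ZMod p) V) := Finite.of_injective _ SetLike.coe_injective
    obtain ⟨W0, hW0⟩ := (Set.toFinite {W' : Submodule (ZMod p) V | Stb E W' ∧ W' ≠ ⊥ ∧ W' ≤ W}).exists_minimal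
      ⟨W, hW, hWne, le_rfl⟩
    obtain ⟨⟨hst, hne, hle⟩, hmin⟩ := hW0
    obtain ⟨w0, hw0, hw0ne⟩ := (Submodule.ne_bot_iff _).1 hne
    have hw0' : φ w0 ≠ 0 := fun h0 => hw0ne ((map_eq_zero_iff φ φ.injective).1 h0)
    obtain ⟨k, hk⟩ := Function.ne_iff.1 hw0'
    have hk' : φ w0 k ≠ 0 := hk
    obtain ⟨b, hb, hbk⟩ := coord_surj h hk' (φ u j)
    have hbW : b w0 ∈ W0 := RR_stb hst hb w0 hw0
    -- the coordinate `k` is injective on `W0`
    have hinj : ∀ w ∈ W0, φ w k = 0 → w = 0 := by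
      intro w hw hwk
      by_contra hwne
      let W1 : Submodule (ZMod p) V :=
        { carrier := {w | w ∈ W0 ∧ φ w k = 0}
          add_mem' := fun {x y} hx hy => ⟨W0.add_mem hx.1 hy.1, by rw [map_add, Pi.add_apply, hx.2, hy.2, add_zero]⟩
          zero_mem' := ⟨W0.zero_mem, by rw [map_zero]; rfl⟩
          smul_mem' := fun c x hx => ⟨W0.smul_mem c hx.1, by rw [map_smul, Pi.smul_apply, hx.2, smul_zero]⟩ }
      have h1 : W0 ≤ W1 := by
        refine hmin (y := W1) ⟨?_, ?_, ?_⟩ (fun x hx => hx.1)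
        · rintro e he x ⟨hx1, hx2⟩
          exact ⟨hst e he x hx1, coord_zero h (mem_RR he) hx2⟩
        · intro hb'
          have : w ∈ W1 := ⟨hw, hwk⟩
          rw [hb'] at this
          exact hwne ((Submodule.mem_bot _).1 this)
        · exact fun x hx => hle hx.1
      exact hk' (h1 hw0).2
    refine ⟨b w0, hle hbW, fun h0 => ?_, fun a ha => ?_⟩
    · rw [h0, map_zero] at hbk
      exact hj' hbk.symm
    · rw [hann a ha]
      have h1 : φ (a (b w0)) k = φ (a u) j := coord_indep h ha _ _ _ _ hbk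
      rw [← h1]
      exact ⟨fun h0 => hinj _ (RR_stb hst ha _ hbW) h0, fun h0 => by rw [h0, map_zero]; rfl⟩
  · intro u hu a ha hab
    have hu' : φ u ≠ 0 := fun h0 => hu.1 ((map_eq_zero_iff φ φ.injective).1 h0)
    obtain ⟨j, hj⟩ := Function.ne_iff.1 hu'
    have hj' : φ u j ≠ 0 := hj
    ext v
    rw [LinearMap.zero_apply]
    apply (map_eq_zero_iff φ φ.injective).1
    funext k
    obtain ⟨b, hb, hbk⟩ := coord_surj h hj' (φ v k)
    have h1 : φ (a (b u)) j = φ (a v) k := coord_indep h ha _ _ _ _ hbk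
    rw [← h1, hab b hb, map_zero]
    rfl

end Cfsg.Agent.H457.Bs
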