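import Mathlib

/-!
# S5717, linear groups: union bound
-/

set_option autoImplicit false

namespace Cfsg.Agent.H457.Bs

variable {p : ℕ} [Fact p.Prime] {V : Type} [AddCommGroup V] [Module (ZMod p) V]

/-- a small group all of whose elements have a large support has a bounded base -/
theorem exists_tuple [Finite V] (hV : ∃ v : V, v ≠ 0) (S : Subgroup (V ≃ₗ[ZMod p] V)) (K : ℕ)
    (hS : Nat.card S ≤ Nat.card V ^ K)
    (hfix : ∀ x ∈ S, x ≠ 1 → Nat.card {v : V // x v = v} ^ 6 ≤ Nat.card V ^ 5) :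
    ∃ w : Fin (6 * (K + 1)) → V, ∀ x ∈ S, (∀ j, x (w j) = w j) → x = 1 := by
  classical
  have : Fintype V := Fintype.ofFinite V
  have hfinE : Finite (V ≃ₗ[ZMod p] V) :=
    Finite.of_injective (fun f : V ≃ₗ[ZMod p] V => (f : V → V)) DFunLike.coe_injective
  have : Fintype S := Fintype.ofFinite S
  by_contra hcon
  push Not at hcon
  set m := 6 * (K + 1) with hm
  have hcard : 1 < Fintype.card V := by
    obtain ⟨v, hv⟩ := hV
    exact Fintype.one_lt_card_iff.2 ⟨v, 0, hv⟩
  -- every tuple is fixed by some element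
  let F : S → Finset (Fin m → V) := fun x => Fintype.piFinset fun _ => Finset.univ.filter fun v => (x : V ≃ₗ[ZMod p] V) v = v
  have hcover : (Finset.univ : Finset (Fin m → V)) ⊆ (Finset.univ.filter fun x : S => x ≠ 1).biUnion F := by
    intro w _
    obtain ⟨x, hx, hxw, hx1⟩ := hcon w
    refine Finset.mem_biUnion.2 ⟨⟨x, hx⟩, ?_, ?_⟩
    · rw [Finset.mem_filter]
      exact ⟨Finset.mem_univ _, fun h => hx1 (congrArg Subtype.val h)⟩
    · rw [Fintype.mem_piFinset]
      intro j
      rw [Finset.mem_filter]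
      exact ⟨Finset.mem_univ _, hxw j⟩
  have hF : ∀ x ∈ (Finset.univ.filter fun x : S => x ≠ 1), (F x).card ≤ Fintype.card V ^ (5 * (K + 1)) := by
    intro x hx
    rw [Finset.mem_filter] at hx
    have h1 : (F x).card = Nat.card {v : V // (x : V ≃ₗ[ZMod p] V) v = v} ^ m := by
      rw [Fintype.card_piFinset, Finset.prod_const, Finset.card_univ, Fintype.card_fin, Nat.card_eq_fintype_card,
        Fintype.card_subtype]
    rw [h1, hm, pow_mul]
    have h2 := hfix x x.2 (fun h => hx.2 (Subtype.ext h))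
    calc (Nat.card {v : V // (x : V ≃ₗ[ZMod p] V) v = v} ^ 6) ^ (K + 1) ≤ (Nat.card V ^ 5) ^ (K + 1) :=
          Nat.pow_le_pow_left h2 _
      _ = Fintype.card V ^ (5 * (K + 1)) := by rw [← pow_mul, Nat.card_eq_fintype_card]
  have h1 := (Finset.card_le_card hcover).trans (Finset.card_biUnion_le)
  have h2 := h1.trans (Finset.sum_le_card_nsmul _ _ _ hF)
  rw [Finset.card_univ, Fintype.card_fun, Fintype.card_fin, smul_eq_mul] at h2
  have h3 : (Finset.univ.filter fun x : S => x ≠ 1).card ≤ Fintype.card V ^ K := by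
    refine (Finset.card_le_univ _).trans ?_
    rw [← Nat.card_eq_fintype_card, ← Nat.card_eq_fintype_card]
    exact hS
  have h4 : Fintype.card V ^ m ≤ Fintype.card V ^ K * Fintype.card V ^ (5 * (K + 1)) :=
    h2.trans (Nat.mul_le_mul_right _ h3)
  rw [← pow_add] at h4
  have h5 := (Nat.pow_le_pow_iff_right hcard).1 h4
  omega

end Cfsg.Agent.H457.Bs
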