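import Cfsg.Agent.H830.B57.Inv
import Cfsg.Agent.H457.Bs.HgDec
import Cfsg.Agent.H457.Bs.Union
import Cfsg.Agent.H594.B57.HomDecNormal
import Cfsg.Agent.H315.B57.Abelian
import Cfsg.Agent.H680.B57.ExStr
import Cfsg.Agent.H223.B57.BigSupport
import Cfsg.Agent.H131.B57.CompDec
import Cfsg.Agent.H39.B57.RA
import Cfsg.Agent.H86.B57.CardStab

/-!
# S5717: primitive linear groups

**`linPrim_of_tbase`** : `TBase T k` for all non-abelian simple groups `T` without an `A_d` section gives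
`LinPrim d (k + K)`.
-/

set_option autoImplicit false

open Subgroup

namespace Cfsg.Agent.H457.Bs

open Cfsg.Agent.H830.B57

section

variable {p : ℕ} [Fact p.Prime] {V : Type} [AddCommGroup V] [Module (ZMod p) V]

theorem fix_zero_of_hg {E : Subgroup (V ≃ₗ[ZMod p] V)} (hE : Hg E)
    (hna : ∃ x y : E ⧸ center E, x * y ≠ y * x) (v : V) (hv : ∀ e ∈ E, e v = v) : v = 0 := by
  by_contra hv0
  obtain ⟨u, hu⟩ := hE.ex
  have hst : Stb E (Submodule.span (ZMod p) {v}) := by
    intro e he w hw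
    obtain ⟨c, rfl⟩ := Submodule.mem_span_singleton.1 hw
    rw [map_smul, hv e he]
    exact hw
  have hne : Submodule.span (ZMod p) {v} ≠ ⊥ := by
    rw [Ne, Submodule.span_singleton_eq_bot]
    exact hv0
  obtain ⟨w, hw, hw0, hsame⟩ := hE.copy u hu _ hst hne
  obtain ⟨c, rfl⟩ := Submodule.mem_span_singleton.1 hw
  have h1 : ∀ e ∈ E, e u = u := by
    intro e he
    have h2 := (hsame ((e : V →ₗ[ZMod p] V) - 1) (sub_mem (mem_RR he) (one_mem _))).2 (by
      rw [LinearMap.sub_apply, Module.End.one_apply]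
      show e (c • v) - c • v = 0
      rw [map_smul, hv e he, sub_self])
    rw [LinearMap.sub_apply, Module.End.one_apply] at h2
    exact sub_eq_zero.1 h2
  have h2 : ∀ b ∈ RR E, ∃ c : ZMod p, b u = c • u := by
    intro b hb
    have hs : Stb E (Submodule.span (ZMod p) {u}) := by
      intro e he w hw
      obtain ⟨c, rfl⟩ := Submodule.mem_span_singleton.1 hw
      rw [map_smul, h1 e he]
      exact hw
    have h3 := RR_stb hs hb u (Submodule.mem_span_singleton_self u)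
    obtain ⟨c, hc⟩ := Submodule.mem_span_singleton.1 h3
    exact ⟨c, hc.symm⟩
  have h3 : ∀ e ∈ E, e = 1 := by
    intro e he
    have h4 := hE.faithful u hu ((e : V →ₗ[ZMod p] V) - 1) (sub_mem (mem_RR he) (one_mem _)) (by
      intro b hb
      obtain ⟨c, hc⟩ := h2 b hb
      rw [hc, map_smul, LinearMap.sub_apply, Module.End.one_apply]
      show c • (e u - u) = 0
      rw [h1 e he, sub_self, smul_zero])
    ext v
    have h5 := LinearMap.congr_fun h4 v
    rw [LinearMap.sub_apply, Module.End.one_apply, LinearMap.zero_apply] at h5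
    exact sub_eq_zero.1 h5
  obtain ⟨a, b, hab⟩ := hna
  obtain ⟨a, rfl⟩ := QuotientGroup.mk_surjective a
  obtain ⟨b, rfl⟩ := QuotientGroup.mk_surjective b
  apply hab
  have ha : a = 1 := Subtype.ext (h3 a a.2)
  rw [ha, QuotientGroup.mk_one, one_mul, mul_one]

/-- an element mapping `E` into `E` normalises `E` -/
theorem norm_of_le [Finite V] {E : Subgroup (V ≃ₗ[ZMod p] V)} {x : V ≃ₗ[ZMod p] V}
    (h : ∀ y ∈ E, x * y * x⁻¹ ∈ E) : ∀ y, y ∈ E ↔ x * y * x⁻¹ ∈ E := by
  have hfin : Finite (V ≃ₗ[ZMod p] V) :=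
    Finite.of_injective (fun f : V ≃ₗ[ZMod p] V => (f : V → V)) DFunLike.coe_injective
  intro y
  refine ⟨h y, fun hy => ?_⟩
  let f : E → E := fun e => ⟨x * e * x⁻¹, h e e.2⟩
  have hf : Function.Injective f := by
    intro a b hab
    have h1 : x * (a : V ≃ₗ[ZMod p] V) * x⁻¹ = x * b * x⁻¹ := congrArg Subtype.val hab
    exact Subtype.ext (mul_left_cancel (mul_right_cancel h1))
  obtain ⟨e, he⟩ := (Finite.injective_iff_surjective.1 hf) ⟨_, hy⟩
  have h1 : x * (e : V ≃ₗ[ZMod p] V) * x⁻¹ = x * y * x⁻¹ := congrArg Subtype.val he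
  have h2 : (e : V ≃ₗ[ZMod p] V) = y := mul_left_cancel (mul_right_cancel h1)
  rw [← h2]
  exact e.2

end

/-- **Primitive linear groups.** -/
theorem linPrim_of_tbase : ∃ K : ℕ, ∀ (d k : ℕ),
    (∀ (T : Type) [Group T] [Finite T] [IsSimpleGroup T], ∃ u v : T, closure {u, v} = ⊤) →
    (∀ (T : Type) [Group T] [Finite T] [IsSimpleGroup T], (∃ x y : T, x * y ≠ y * x) →
      ¬ Cfsg.Involves (alternatingGroup (Fin d)) T → TBase T k) → LinPrim d (k + K) := by
  classical
  obtain ⟨K, hK⟩ := H86.B57.card_stab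
  refine ⟨6 * K + 9, ?_⟩
  intro d k h2 hT p _ V _ _ _ X hX hna
  have hfinE : Finite (V ≃ₗ[ZMod p] V) :=
    Finite.of_injective (fun f : V ≃ₗ[ZMod p] V => (f : V → V)) DFunLike.coe_injective
  obtain ⟨A, C, R, t, E, hS⟩ := _root_.Cfsg.Agent.H680.B57.ExStr.exists_str X hX
  have hAX : A ≤ X := hS.AR.trans (hS.RC.trans hS.CX)
  obtain ⟨hcyc, hsemi, -⟩ := H315.B57.abelian_normal X hX A hAX hS.Anorm hS.Acomm
  have hdec := fun i => H131.B57.comp_dec_of_D1 X hX (H594.B57.homDec_of_normal X hX) A C R t E hS i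
  have hRA : A.relIndex R ≤ (Module.finrank (ZMod p) V) ^ 2 :=
    H39.B57.card_RA_of (fun X hX A h1 h2 h3 => H315.B57.abelian_normal X hX A h1 h2 h3) X hX A C R t E hS
  have hHg : ∀ i, Hg (E i) := by
    intro i
    obtain ⟨U, _, _, M, ρ, φ, h, -⟩ := hdec i
    exact hg_of_homDec h hX.nt
  have ht : 2 ^ (t - 1) ≤ Module.finrank (ZMod p) V := by
    have hfr : 1 ≤ Module.finrank (ZMod p) V := by
      obtain ⟨v, hv⟩ := hX.nt
      have : Nontrivial V := ⟨⟨v, 0, hv⟩⟩
      have : Module.Finite (ZMod p) V := Module.Finite.of_finite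
      exact Module.finrank_pos
    rcases Nat.eq_zero_or_pos t with h0 | h0
    · subst h0
      simpa using hfr
    · obtain ⟨U, _, _, M, ρ, φ, h, hM⟩ := hdec ⟨0, h0⟩
      refine hM.trans ?_
      have : Module.Finite (ZMod p) V := Module.Finite.of_finite
      obtain ⟨u, hu⟩ := h.nt
      have hMpos : 0 < M := lt_of_lt_of_le (Nat.two_pow_pos _) hM
      have hfinU : Finite U := by
        refine Finite.of_injective (fun u : U => φ.symm fun _ => u) ?_
        intro a b hab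
        exact congrFun (φ.symm.injective hab) ⟨0, hMpos⟩
      have : Module.Finite (ZMod p) U := Module.Finite.of_finite
      have : Nontrivial U := ⟨⟨u, 0, hu⟩⟩
      have h1 : Module.finrank (ZMod p) V = M * Module.finrank (ZMod p) U := by
        rw [LinearEquiv.finrank_eq φ, Module.finrank_pi_fintype, Finset.sum_const, Finset.card_univ, Fintype.card_fin,
          smul_eq_mul]
      rw [h1]
      exact Nat.le_mul_of_pos_right _ Module.finrank_pos
  have hTE : ∀ i, TBase (E i ⧸ center (E i)) k := by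
    intro i
    have := hS.Esimp i
    refine hT _ (hS.Enab i) fun h => hna ?_
    have h3 := involves_of_surjective (QuotientGroup.mk' (center (E i))) (QuotientGroup.mk'_surjective _) h
    exact involves_of_injective (Subgroup.inclusion ((hS.EC i).trans hS.CX))
      (Subgroup.inclusion_injective _) h3
  obtain ⟨v, hv0, hv⟩ := comp_vecs E hHg hS.Ecomm hS.Eperf hS.Enab k hTE hX.nt
  obtain ⟨v0, hv00⟩ := hX.nt
  obtain ⟨a0, ha0⟩ := hcyc.exists_generator
  -- the stabiliser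
  let S : Subgroup (V ≃ₗ[ZMod p] V) :=
    { carrier := {x | x ∈ X ∧ x v0 = v0 ∧ x ((a0 : V ≃ₗ[ZMod p] V) v0) = (a0 : V ≃ₗ[ZMod p] V) v0 ∧
        ∀ j, x (v j) = v j}
      one_mem' := ⟨one_mem _, rfl, rfl, fun _ => rfl⟩
      mul_mem' := by
        rintro x y ⟨hx, hx1, hx2, hx3⟩ ⟨hy, hy1, hy2, hy3⟩
        refine ⟨mul_mem hx hy, ?_, ?_, fun j => ?_⟩
        · rw [mul_app, hy1, hx1]
        · rw [mul_app, hy2, hx2]
        · rw [mul_app, hy3, hx3]
      inv_mem' := by
        rintro x ⟨hx, hx1, hx2, hx3⟩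
        refine ⟨inv_mem hx, ?_, ?_, fun j => ?_⟩
        · conv_lhs => rw [← hx1]
          exact inv_app _ _
        · conv_lhs => rw [← hx2]
          exact inv_app _ _
        · conv_lhs => rw [← hx3 j]
          exact inv_app _ _ }
  have hSmem : ∀ x, x ∈ S ↔ x ∈ X ∧ x v0 = v0 ∧ x ((a0 : V ≃ₗ[ZMod p] V) v0) = (a0 : V ≃ₗ[ZMod p] V) v0 ∧
        ∀ j, x (v j) = v j := fun x => Iff.rfl
  have hSA : ∀ x ∈ S, ∀ a ∈ A, x * a = a * x := by
    intro x hx a ha
    obtain ⟨hxX, hx1, hx2, -⟩ := (hSmem x).1 hx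
    have hx1' : x⁻¹ v0 = v0 := by
      conv_lhs => rw [← hx1]
      exact inv_app _ _
    have h3 : (a0 : V ≃ₗ[ZMod p] V)⁻¹ * (x * a0 * x⁻¹) ∈ A := mul_mem (inv_mem a0.2) (hS.Anorm x hxX _ a0.2)
    have h4 : (a0 : V ≃ₗ[ZMod p] V)⁻¹ * (x * a0 * x⁻¹) = 1 := by
      by_contra hne
      refine hv00 (hsemi _ h3 hne v0 ?_)
      rw [mul_app, mul_app, mul_app, hx1', hx2]
      exact inv_app _ _
    have h5 : x * (a0 : V ≃ₗ[ZMod p] V) = a0 * x := by
      have h6 := inv_mul_eq_one.1 h4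
      calc x * (a0 : V ≃ₗ[ZMod p] V) = (x * a0 * x⁻¹) * x := by group
        _ = a0 * x := by rw [← h6]
    obtain ⟨n, hn⟩ := Subgroup.mem_zpowers_iff.1 (ha0 ⟨a, ha⟩)
    have h6 : (a : V ≃ₗ[ZMod p] V) = (a0 : V ≃ₗ[ZMod p] V) ^ n := by
      have := congrArg Subtype.val hn
      simpa using this.symm
    rw [h6]
    exact (show Commute x (a0 : V ≃ₗ[ZMod p] V) from h5).zpow_right n
  have hSC : S ≤ C := fun x hx => (hS.Ceq x).2 ⟨((hSmem x).1 hx).1, hSA x hx⟩
  have hSbot : S ⊓ A = ⊥ := by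
    rw [eq_bot_iff]
    rintro x ⟨hx, hxA⟩
    by_contra hne
    exact hv00 (hsemi x hxA (fun h => hne (Subgroup.mem_bot.2 h)) v0 ((hSmem x).1 hx).2.1)
  have hSE : ∀ x ∈ S, (∀ i, ∀ y, y ∈ E i ↔ x * y * x⁻¹ ∈ E i) → ∀ i, ∀ e ∈ E i, x * e = e * x :=
    fun x hx hn => hv x hn ((hSmem x).1 hx).2.2.2
  have hScard := hK p V X A C R t E hS hcyc ht hRA S hSC hSbot hSE
  have hbig : ∀ x ∈ S, x ≠ 1 → Nat.card {v : V // x v = v} ^ 6 ≤ Nat.card V ^ 5 := by
    intro x hx hx1
    refine H223.B57.big_support_of X A C R t E hS (fun i => ?_) hsemi (fun i => fix_zero_of_hg (hHg i) (hS.Enab i))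
      x ((hSmem x).1 hx).1 ?_
    · have := hS.Esimp i
      exact h2 _
    · by_contra hcon
      push Not at hcon
      obtain ⟨-, hc2, hc3⟩ := hcon
      apply hx1
      have h3 : x ∈ A := hS.cent x (hSC hx) hc2 (hSE x hx fun i => norm_of_le (hc3 i))
      have h4 : x ∈ S ⊓ A := ⟨hx, h3⟩
      rw [hSbot] at h4
      exact Subgroup.mem_bot.1 h4
  obtain ⟨w, hw⟩ := exists_tuple ⟨v0, hv00⟩ S K hScard hbig
  refine ⟨{v0, (a0 : V ≃ₗ[ZMod p] V) v0} ∪ (Finset.univ.image v ∪ Finset.univ.image w), ?_, ?_⟩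
  · refine (Finset.card_union_le _ _).trans ?_
    have h3 : ({v0, (a0 : V ≃ₗ[ZMod p] V) v0} : Finset V).card ≤ 2 := Finset.card_le_two
    have h4 : (Finset.univ.image v).card ≤ k + 1 := Finset.card_image_le.trans (by simp)
    have h5 : (Finset.univ.image w).card ≤ 6 * (K + 1) := Finset.card_image_le.trans (by simp)
    have h6 := Finset.card_union_le (Finset.univ.image v) (Finset.univ.image w)
    omega
  · intro g hg hfix
    refine hw g ((hSmem g).2 ⟨hg, hfix _ ?_, hfix _ ?_, fun j => hfix _ ?_⟩) fun j => hfix _ ?_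
    · simp
    · simp
    · simp
    · simp

end Cfsg.Agent.H457.Bs
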