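import Cfsg.Agent.H830.B57.Defs

/-!
# S5717, linear groups: points of the components

For a subgroup `E` of `GL(V)`: the ring `RR E` generated by `E`, pure vectors (vectors of irreducible `E`-submodules),
the annihilator of a pure vector (a maximal left ideal of `RR E`) = a point of the projective space of the irreducible
module. `comp_points` : `TBase` gives `k + 1` pure vectors such that every `x` normalising `E` and fixing their
annihilators centralises `E`; `common` : for commuting groups `E i` and pure vectors `u i` there is one vector having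
the annihilators of all the `u i`.
-/

set_option autoImplicit false

open Subgroup

namespace Cfsg.Agent.H457.Bs

open Cfsg.Agent.H830.B57

variable {p : ℕ} [Fact p.Prime] {V : Type} [AddCommGroup V] [Module (ZMod p) V]

/-- the ring generated by `E` in `End V` -/
def RR (E : Subgroup (V ≃ₗ[ZMod p] V)) : Subalgebra (ZMod p) (Module.End (ZMod p) V) :=
  Algebra.adjoin (ZMod p) {f | ∃ e ∈ E, f = (e : V →ₗ[ZMod p] V)}

/-- the subspace `W` is stable under `E` -/
def Stb (E : Subgroup (V ≃ₗ[ZMod p] V)) (W : Submodule (ZMod p) V) : Prop := ∀ e ∈ E, ∀ w ∈ W, e w ∈ W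

/-- `u` is a non-zero vector of an irreducible `E`-submodule -/
def Pure (E : Subgroup (V ≃ₗ[ZMod p] V)) (u : V) : Prop :=
  u ≠ 0 ∧ ∀ a ∈ RR E, a u ≠ 0 → ∃ b ∈ RR E, b (a u) = u

/-- `u` and `w` have the same annihilator in the ring generated by `E` -/
def SameAnn (E : Subgroup (V ≃ₗ[ZMod p] V)) (u w : V) : Prop := ∀ a ∈ RR E, a u = 0 ↔ a w = 0

/-- conjugation by `x` fixes the annihilator of `u` -/
def FixAnn (E : Subgroup (V ≃ₗ[ZMod p] V)) (x : V ≃ₗ[ZMod p] V) (u : V) : Prop :=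
  ∀ a ∈ RR E, a u = 0 ↔ x (a (x⁻¹ u)) = 0

/-- homogeneity -/
structure Hg (E : Subgroup (V ≃ₗ[ZMod p] V)) : Prop where
  ex : ∃ u : V, Pure E u
  copy : ∀ u : V, Pure E u → ∀ W : Submodule (ZMod p) V, Stb E W → W ≠ ⊥ → ∃ w ∈ W, w ≠ 0 ∧ SameAnn E u w
  faithful : ∀ u : V, Pure E u → ∀ a ∈ RR E, (∀ b ∈ RR E, a (b u) = 0) → a = 0

theorem mem_RR {E : Subgroup (V ≃ₗ[ZMod p] V)} {e : V ≃ₗ[ZMod p] V} (he : e ∈ E) :
    (e : V →ₗ[ZMod p] V) ∈ RR E := Algebra.subset_adjoin ⟨e, he, rfl⟩

theorem mul_coe (x y : V ≃ₗ[ZMod p] V) : ((x * y : V ≃ₗ[ZMod p] V) : V →ₗ[ZMod p] V) =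
    (x : V →ₗ[ZMod p] V) * (y : V →ₗ[ZMod p] V) := rfl

/-- the conjugate endomorphism -/
def cj (x : V ≃ₗ[ZMod p] V) (a : Module.End (ZMod p) V) : Module.End (ZMod p) V :=
  (x : V →ₗ[ZMod p] V) * a * ((x⁻¹ : V ≃ₗ[ZMod p] V) : V →ₗ[ZMod p] V)

theorem cj_apply (x : V ≃ₗ[ZMod p] V) (a : Module.End (ZMod p) V) (v : V) : cj x a v = x (a (x⁻¹ v)) := rfl

theorem inv_app (x : V ≃ₗ[ZMod p] V) (v : V) : x⁻¹ (x v) = v := x.symm_apply_apply v

theorem app_inv (x : V ≃ₗ[ZMod p] V) (v : V) : x (x⁻¹ v) = v := x.apply_symm_apply v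

theorem cj_mem {E : Subgroup (V ≃ₗ[ZMod p] V)} {x : V ≃ₗ[ZMod p] V} (hx : ∀ y ∈ E, x * y * x⁻¹ ∈ E)
    {a : Module.End (ZMod p) V} (ha : a ∈ RR E) : cj x a ∈ RR E := by
  induction ha using Algebra.adjoin_induction with
  | mem a ha =>
    obtain ⟨e, he, rfl⟩ := ha
    exact mem_RR (hx e he)
  | algebraMap r =>
    have : cj x (algebraMap (ZMod p) (Module.End (ZMod p) V) r) = algebraMap (ZMod p) (Module.End (ZMod p) V) r := by
      ext v
      simp only [cj_apply, Module.algebraMap_end_apply, map_smul, app_inv]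
    rw [this]
    exact (RR E).algebraMap_mem r
  | add a b _ _ ha hb =>
    have : cj x (a + b) = cj x a + cj x b := by
      ext v
      simp only [cj_apply, LinearMap.add_apply, map_add]
    rw [this]
    exact add_mem ha hb
  | mul a b _ _ ha hb =>
    have : cj x (a * b) = cj x a * cj x b := by
      ext v
      simp only [cj_apply, Module.End.mul_apply, inv_app]
    rw [this]
    exact mul_mem ha hb

theorem comm_RR {E F : Subgroup (V ≃ₗ[ZMod p] V)} (h : ∀ x ∈ E, ∀ y ∈ F, x * y = y * x)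
    {a b : Module.End (ZMod p) V} (ha : a ∈ RR E) (hb : b ∈ RR F) : a * b = b * a := by
  have h1 : ∀ e ∈ E, ∀ b ∈ RR F, (e : V →ₗ[ZMod p] V) * b = b * (e : V →ₗ[ZMod p] V) := by
    intro e he b hb
    induction hb using Algebra.adjoin_induction with
    | mem b hb =>
      obtain ⟨f, hf, rfl⟩ := hb
      rw [← mul_coe, ← mul_coe, h e he f hf]
    | algebraMap r => exact (Algebra.commutes r _).symm
    | add a b _ _ ha hb => rw [mul_add, add_mul, ha, hb]
    | mul a b _ _ ha hb => rw [← mul_assoc, ha, mul_assoc, hb, mul_assoc]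
  induction ha using Algebra.adjoin_induction with
  | mem a ha =>
    obtain ⟨e, he, rfl⟩ := ha
    exact h1 e he b hb
  | algebraMap r => exact Algebra.commutes r _
  | add a c _ _ ha hc => rw [mul_add, add_mul, ha, hc]
  | mul a c _ _ ha hc => rw [mul_assoc, hc, ← mul_assoc, ha, mul_assoc]

theorem RR_stb {E : Subgroup (V ≃ₗ[ZMod p] V)} {W : Submodule (ZMod p) V} (hW : Stb E W)
    {a : Module.End (ZMod p) V} (ha : a ∈ RR E) : ∀ w ∈ W, a w ∈ W := by
  induction ha using Algebra.adjoin_induction with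
  | mem a ha =>
    obtain ⟨e, he, rfl⟩ := ha
    exact hW e he
  | algebraMap r =>
    intro w hw
    rw [Module.algebraMap_end_apply]
    exact W.smul_mem r hw
  | add a b _ _ ha hb =>
    intro w hw
    exact W.add_mem (ha w hw) (hb w hw)
  | mul a b _ _ ha hb =>
    intro w hw
    exact ha _ (hb w hw)

/-- **common vector** -/
theorem common {t : ℕ} (E : Fin t → Subgroup (V ≃ₗ[ZMod p] V)) (hE : ∀ i, Hg (E i))
    (hcomm : ∀ i j, i ≠ j → ∀ x ∈ E i, ∀ y ∈ E j, x * y = y * x) (u : Fin t → V) (hu : ∀ i, Pure (E i) (u i))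
    (hV : ∃ v : V, v ≠ 0) : ∃ v : V, v ≠ 0 ∧ ∀ i, SameAnn (E i) (u i) v := by
  classical
  have key : ∀ S : Finset (Fin t), ∃ W : Submodule (ZMod p) V, W ≠ ⊥ ∧ (∀ j ∉ S, Stb (E j) W) ∧
      ∀ w ∈ W, ∀ i ∈ S, ∀ a ∈ RR (E i), a (u i) = 0 → a w = 0 := by
    intro S
    induction S using Finset.induction with
    | empty =>
      obtain ⟨v, hv⟩ := hV
      refine ⟨⊤, fun h => hv ?_, fun j _ e _ w _ => Submodule.mem_top, fun w _ i hi => by simp at hi⟩
      have : v ∈ (⊤ : Submodule (ZMod p) V) := Submodule.mem_top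
      rw [h] at this
      exact (Submodule.mem_bot _).1 this
    | insert i S hi ih =>
      obtain ⟨W, hW, hst, hann⟩ := ih
      refine ⟨{ carrier := {w | w ∈ W ∧ ∀ a ∈ RR (E i), a (u i) = 0 → a w = 0}
                add_mem' := fun {x y} hx hy => ⟨W.add_mem hx.1 hy.1, fun a ha h0 => by
                  rw [map_add, hx.2 a ha h0, hy.2 a ha h0, add_zero]⟩
                zero_mem' := ⟨W.zero_mem, fun a _ _ => map_zero a⟩
                smul_mem' := fun c x hx => ⟨W.smul_mem c hx.1, fun a ha h0 => by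
                  rw [map_smul, hx.2 a ha h0, smul_zero]⟩ }, ?_, ?_, ?_⟩
      · obtain ⟨w, hw, hw0, hsame⟩ := (hE i).copy (u i) (hu i) W (hst i hi) hW
        intro hbot
        have : w ∈ (⊥ : Submodule (ZMod p) V) := by
          rw [← hbot]
          exact ⟨hw, fun a ha h0 => (hsame a ha).1 h0⟩
        exact hw0 ((Submodule.mem_bot _).1 this)
      · intro j hj e he w hw
        have hji : i ≠ j := fun h => hj (by rw [h]; exact Finset.mem_insert_self _ _)
        refine ⟨hst j (fun h => hj (Finset.mem_insert_of_mem h)) e he w hw.1, fun a ha h0 => ?_⟩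
        have h1 : a * (e : V →ₗ[ZMod p] V) = (e : V →ₗ[ZMod p] V) * a := comm_RR (hcomm i j hji) ha (mem_RR he)
        have h2 : a (e w) = e (a w) := LinearMap.congr_fun h1 w
        rw [h2, hw.2 a ha h0, map_zero]
      · intro w hw j hj a ha h0
        rcases Finset.mem_insert.1 hj with rfl | hj
        · exact hw.2 a ha h0
        · exact hann w hw.1 j hj a ha h0
  obtain ⟨W, hW, -, hann⟩ := key Finset.univ
  obtain ⟨w, hw, hw0⟩ := (Submodule.ne_bot_iff _).1 hW
  refine ⟨w, hw0, fun i a ha => ⟨hann w hw i (Finset.mem_univ i) a ha, fun h0 => ?_⟩⟩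
  by_contra hne
  obtain ⟨b, hb, hbu⟩ := (hu i).2 a ha hne
  have h1 := hann w hw i (Finset.mem_univ i) (b * a - 1) (sub_mem (mul_mem hb ha) (one_mem _)) (by
    rw [LinearMap.sub_apply, Module.End.mul_apply, Module.End.one_apply, hbu, sub_self])
  rw [LinearMap.sub_apply, Module.End.mul_apply, Module.End.one_apply, h0, map_zero, zero_sub, neg_eq_zero] at h1
  exact hw0 h1

/-- a vector having the annihilator of `u` and fixed by `x` : conjugation by `x` fixes the annihilator -/
theorem fixAnn_of {E : Subgroup (V ≃ₗ[ZMod p] V)} {x : V ≃ₗ[ZMod p] V} (hx : ∀ y ∈ E, x * y * x⁻¹ ∈ E) {u v : V}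
    (h : SameAnn E u v) (hv : x v = v) : FixAnn E x u := by
  intro a ha
  have h1 := h _ (cj_mem hx ha)
  rw [cj_apply, cj_apply] at h1
  have h2 : x⁻¹ v = v := by
    conv_lhs => rw [← hv]
    exact inv_app x v
  rw [h2] at h1
  rw [h a ha, h1]
  exact ⟨fun h => by rw [h, map_zero], fun h => (map_eq_zero_iff x x.injective).1 h⟩

end Cfsg.Agent.H457.Bs
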